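import Cfsg.Agent.Spor.J4ma.S.D0

set_option autoImplicit false
set_option maxRecDepth 100000000
set_option Elab.async false

namespace Cfsg.Agent.Spor.J4ma.S

theorem gr4 : sub M3 (U.growI W2 [0, 1, 2, 3, 3, 1, 0] (Nat.shiftLeft 1 55)) = true := by decide +kernel

theorem sd6 : U.sends [7, 9, 3, 5, 7] 0 55 = true := by decide +kernel

theorem gr7 : sub (ones 77) (U.growI ([7, 9, 3, 5, 7] :: W2) [0, 1, 2, 3, 4, 4, 2, 1, 0, 0, 1, 2, 3, 4] (Nat.shiftLeft 1 0)) = true := by decide +kernel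

theorem gr10 : sub M9 (U.growI W2 [0, 1, 2, 3, 3, 2, 1, 0, 1, 2, 3] (Nat.shiftLeft 1 1)) = true := by decide +kernel

theorem sd12 : U.sends [7] 0 1 = true := by decide +kernel

theorem gr13 : sub (ones 77) (U.growI ([7] :: W2) [0, 1, 2, 3, 4, 4, 3, 2, 1, 0, 1, 2, 3, 4, 4] (Nat.shiftLeft 1 0)) = true := by decide +kernel

theorem ff15 : U.fixFrom 7 77 1 = true := by decide +kernel

theorem ff16 : U.fixFrom 7 77 3 = true := by decide +kernel

theorem ff17 : U.fixFrom 7 77 5 = true := by decide +kernel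

theorem ff18 : U.fixFrom 7 77 7 = true := by decide +kernel

theorem ff19 : U.fixFrom 7 77 9 = true := by decide +kernel

end Cfsg.Agent.Spor.J4ma.S
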