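import Cfsg.Agent.Spor.Chk2
import Cfsg.Agent.Spor.J4ma.D0

set_option autoImplicit false
set_option maxRecDepth 100000000
set_option Elab.async false
noncomputable section

namespace Cfsg.Agent.Spor.J4ma.S

def W1 : List (List Nat) := [[1], [3], [5], [7], [9]]

def W2 : List (List Nat) := [[1], [3], [5], [9]]

def M3 : Nat := nat_lit 0x1ff54294000000000000

def M9 : Nat := nat_lit 0xabd6bfffffffffffe

def U : Tab := ⟨[n0, n1, n2, n3, n4], [⟨0, false, 0, 0, []⟩, ⟨0, false, 0, 0, []⟩, ⟨0, true, 0, 0, []⟩, ⟨1, false, 0, 0, []⟩, ⟨1, true, 0, 0, []⟩, ⟨2, false, 0, 0, []⟩, ⟨2, true, 0, 0, []⟩, ⟨3, false, 0, 0, []⟩, ⟨3, true, 0, 0, []⟩, ⟨4, false, 0, 0, []⟩, ⟨4, true, 0, 0, []⟩]⟩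

end Cfsg.Agent.Spor.J4ma.S
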